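import Cfsg.Agent.Omega.FF.Basic
import Cfsg.Agent.Omega.NO3b.Exit.BO

/-!
# NotFF (v2), THEOREM ACT (bb OMEGA #20394, helper999; referee #21164, helper953), part 1: notation

`V₁ = E ⊗ Y` is a subgroup of the `H`-module `M`, given by an injective map `ι : (κ → E) →+ M` (`Y = F^κ`, `E` an
`F`-space): `tn ι e y = e ⊗ y`, `pt F ι e = e ⊗ Y` (the points of `V₁`), `Lin F ι` = the elements of `H` which act on `V₁`
as `g ⊗ 1`, `g ∈ GL(E)`.
-/

set_option autoImplicit false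
set_option linter.unusedSectionVars false

namespace Cfsg.Agent.Omega.NO3b.ActT

open Cfsg.Agent.Omega.FF.Basic (fx mem_fx)
open Cfsg.Agent.Omega.NO3b.Exit.TT (cf mem_cf nf mem_nf mem_smul smul_mem')
open scoped Pointwise

variable {H : Type*} [Group H] {M : Type*} [AddCommGroup M] [DistribMulAction H M]
  {F : Type*} [Field F] {E : Type*} [AddCommGroup E] [Module F E] {κ : Type*}

/-- `e ⊗ y` -/
def tn (ι : (κ → E) →+ M) (e : E) (y : κ → F) : M := ι fun j => y j • e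

theorem tn_add (ι : (κ → E) →+ M) (e e' : E) (y : κ → F) : tn ι (e + e') y = tn ι e y + tn ι e' y := by
  rw [tn, tn, tn, ← map_add]
  congr 1
  funext j
  exact smul_add _ _ _

theorem tn_add' (ι : (κ → E) →+ M) (e : E) (y y' : κ → F) : tn ι e (y + y') = tn ι e y + tn ι e y' := by
  rw [tn, tn, tn, ← map_add]
  congr 1
  funext j
  exact add_smul _ _ _

theorem tn_smul (ι : (κ → E) →+ M) (c : F) (e : E) (y : κ → F) : tn ι (c • e) y = tn ι e (c • y) := by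
  rw [tn, tn]
  congr 1
  funext j
  rw [Pi.smul_apply, smul_smul, smul_eq_mul, mul_comm]

@[simp] theorem tn_zero (ι : (κ → E) →+ M) (e : E) : tn ι e (0 : κ → F) = 0 := by
  rw [tn]
  have : (fun j : κ => (0 : κ → F) j • e) = 0 := by funext j; simp
  rw [this, map_zero]

@[simp] theorem zero_tn (ι : (κ → E) →+ M) (y : κ → F) : tn ι (0 : E) y = 0 := by
  rw [tn]
  have : (fun j : κ => y j • (0 : E)) = 0 := by funext j; simp
  rw [this, map_zero]

theorem tn_inj {ι : (κ → E) →+ M} (hι : Function.Injective ι) {e : E} (he : e ≠ 0) {y y' : κ → F}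
    (h : tn ι e y = tn ι e y') : y = y' := by
  have h1 := hι h
  funext j
  have h2 := congrFun h1 j
  exact smul_left_injective F he h2

theorem tn_eq_zero {ι : (κ → E) →+ M} (hι : Function.Injective ι) {e : E} (he : e ≠ 0) {y : κ → F}
    (h : tn ι e y = 0) : y = 0 := tn_inj hι he (h.trans (tn_zero ι e).symm)

/-- `y ↦ e ⊗ y` -/
def tnh (ι : (κ → E) →+ M) (e : E) : (κ → F) →+ M where
  toFun := tn ι e
  map_zero' := tn_zero ι e
  map_add' := tn_add' ι e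

@[simp] theorem tnh_apply (ι : (κ → E) →+ M) (e : E) (y : κ → F) : tnh ι e y = tn ι e y := rfl

/-- `e ⊗ Y` -/
def pt (F : Type*) [Field F] [Module F E] (ι : (κ → E) →+ M) (e : E) : AddSubgroup M where
  carrier := {m | ∃ y : κ → F, m = tn ι e y}
  zero_mem' := ⟨0, (tn_zero ι e).symm⟩
  add_mem' := by
    rintro _ _ ⟨y, rfl⟩ ⟨y', rfl⟩
    exact ⟨y + y', (tn_add' ι e y y').symm⟩
  neg_mem' := by
    rintro _ ⟨y, rfl⟩
    refine ⟨-y, ?_⟩
    rw [neg_eq_iff_add_eq_zero, ← tn_add', add_neg_cancel, tn_zero]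

theorem mem_pt {ι : (κ → E) →+ M} {e : E} {m : M} : m ∈ pt F ι e ↔ ∃ y : κ → F, m = tn ι e y := Iff.rfl

theorem tn_mem (ι : (κ → E) →+ M) (e : E) (y : κ → F) : tn ι e y ∈ pt F ι e := ⟨y, rfl⟩

theorem pt_smul (ι : (κ → E) →+ M) {c : F} (hc : c ≠ 0) (e : E) : pt F ι (c • e) = pt F ι e := by
  ext m
  constructor
  · rintro ⟨y, rfl⟩
    exact ⟨c • y, tn_smul ι c e y⟩
  · rintro ⟨y, rfl⟩
    refine ⟨c⁻¹ • y, ?_⟩
    rw [tn_smul, smul_smul, mul_inv_cancel₀ hc, one_smul]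

theorem pt_le (ι : (κ → E) →+ M) (e : E) : pt F ι e ≤ ι.range := by
  rintro _ ⟨y, rfl⟩
  exact ⟨_, rfl⟩

/-- `|e ⊗ Y| = |Y|` -/
theorem card_pt {ι : (κ → E) →+ M} (hι : Function.Injective ι) {e : E} (he : e ≠ 0) :
    Nat.card (pt F ι e) = Nat.card (κ → F) := by
  refine (Nat.card_congr (Equiv.ofBijective (fun y : κ → F => (⟨tn ι e y, tn_mem ι e y⟩ : pt F ι e)) ⟨?_, ?_⟩)).symm
  · intro y y' h
    exact tn_inj hι he (congrArg Subtype.val h)
  · rintro ⟨_, y, rfl⟩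
    exact ⟨y, rfl⟩

/-- `h` acts on `V₁` as `g ⊗ 1` -/
def IsLin (ι : (κ → E) →+ M) (h : H) (g : E →ₗ[F] E) : Prop := ∀ v : κ → E, h • ι v = ι fun j => g (v j)

theorem IsLin.tn {ι : (κ → E) →+ M} {h : H} {g : E →ₗ[F] E} (hg : IsLin ι h g) (e : E) (y : κ → F) :
    h • tn ι e y = tn ι (g e) y := by
  rw [ActT.tn, hg, ActT.tn]
  congr 1
  funext j
  exact g.map_smul _ _

/-- the elements of `H` acting on `V₁` as `g ⊗ 1`, `g ∈ GL(E)` -/
def Lin (H : Type*) [Group H] [DistribMulAction H M] (F : Type*) [Field F] [Module F E] (ι : (κ → E) →+ M) :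
    Subgroup H where
  carrier := {h | ∃ g : E ≃ₗ[F] E, IsLin ι h (g : E →ₗ[F] E)}
  one_mem' := ⟨LinearEquiv.refl F E, fun v => one_smul _ _⟩
  mul_mem' := by
    rintro a b ⟨g, hg⟩ ⟨g', hg'⟩
    refine ⟨g'.trans g, fun v => ?_⟩
    rw [mul_smul, hg', hg]
    rfl
  inv_mem' := by
    rintro a ⟨g, hg⟩
    refine ⟨g.symm, fun v => ?_⟩
    rw [inv_smul_eq_iff, hg]
    congr 1
    funext j
    exact (g.apply_symm_apply (v j)).symm

theorem mem_Lin {ι : (κ → E) →+ M} {h : H} : h ∈ Lin H F ι ↔ ∃ g : E ≃ₗ[F] E, IsLin ι h (g : E →ₗ[F] E) := Iff.rfl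

theorem Lin_le_nf (ι : (κ → E) →+ M) : Lin H F ι ≤ nf H ι.range := by
  have key : ∀ h ∈ Lin H F ι, ∀ m ∈ ι.range, h • m ∈ ι.range := by
    rintro h ⟨g, hg⟩ _ ⟨v, rfl⟩
    exact ⟨_, (hg v).symm⟩
  intro h hh
  rw [mem_nf]
  ext m
  rw [mem_smul]
  constructor
  · intro hm
    have := key h hh _ hm
    rwa [smul_inv_smul] at this
  · intro hm
    exact key _ (inv_mem hh) _ hm

/-- `O₂(K)` as a subgroup of `H` -/
def OT (K : Subgroup H) : Subgroup H := (Cfsg.pCore 2 K).map K.subtype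

/-- **The geometry of the points and of `V₁`** -/
structure Geo (H : Type*) [Group H] {M : Type*} [AddCommGroup M] [DistribMulAction H M] (F : Type*) [Field F]
    {E : Type*} [AddCommGroup E] [Module F E] {κ : Type*} (ι : (κ → E) →+ M) (e₀ : E) : Prop where
  two : ∀ m : M, m + m = 0
  faith : ∀ h : H, (∀ m : M, h • m = m) → h = 1
  inj : Function.Injective ι
  e₀ne : e₀ ≠ 0
  exists_ind : ∃ e₁ : E, ∀ c : F, e₁ ≠ c • e₀
  /-- every transvection of `E` is induced -/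
  tv : ∀ (e : E) (χ : E →ₗ[F] F), χ e = 0 → ∃ h : H, ∀ v : κ → E, h • ι v = ι fun j => v j + χ (v j) • e
  /-- `C_H(v) = C_H(λ)` for `0 ≠ v ∈ λ = e₀ ⊗ Y` -/
  C2 : ∀ h : H, ∀ v ∈ pt F ι e₀, v ≠ 0 → h • v = v → h ∈ cf H (pt F ι e₀)
  /-- the points generate `M` -/
  gen : ∀ N : AddSubgroup M, (∀ h : H, h • pt F ι e₀ ≤ N) → N = ⊤
  /-- `H = ⟨N_H(λ), Lin⟩` (the point graph is connected) -/
  conn : ∀ K : Subgroup H, nf H (pt F ι e₀) ≤ K → Lin H F ι ≤ K → K = ⊤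

end Cfsg.Agent.Omega.NO3b.ActT
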