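import Cfsg.Agent.Omega.NO3b.ActT.Tens

/-!
# NotFF (v2), THEOREM ACT (bb OMEGA #20394, helper999; referee #21164, helper953), part 4: `V₁ = E ⊗ Y` is not FF
-/

set_option autoImplicit false
set_option linter.unusedSectionVars false

namespace Cfsg.Agent.Omega.NO3b.ActT

open Cfsg.Agent.Omega.FF.Basic (fx mem_fx fx_anti card_sup_inf card_le EA mm mm_bot)
open Cfsg.Agent.Omega.NO3b.Exit.TT (cf mem_cf nf mem_nf mem_smul smul_mem' nf_smul le_cf card_smul' cf_conj nf_conj
  cf_le_nf)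
open scoped Pointwise

variable {H : Type*} [Group H] {M : Type*} [AddCommGroup M] [DistribMulAction H M]
  {F : Type*} [Field F] {E : Type*} [AddCommGroup E] [Module F E] {κ : Type*}
  {ι : (κ → E) →+ M} {e₀ : E}

/-- `C_E(D)` -/
def E₀ (F : Type*) [Field F] [Module F E] (ι : (κ → E) →+ M) (D : Subgroup H) : Submodule F E where
  carrier := {e | ∀ d ∈ D, ∀ y : κ → F, d • tn ι e y = tn ι e y}
  zero_mem' := fun d _ y => by rw [zero_tn, smul_zero]
  add_mem' := fun {a b} ha hb d hd y => by rw [tn_add, smul_add, ha d hd, hb d hd]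
  smul_mem' := fun c a ha d hd y => by rw [tn_smul, ha d hd]

/-- `D ≤ Lin` -/
theorem nff_lin [Finite H] [Finite M] [Finite F] [Finite κ] [Nonempty κ] (G : Geo H F ι e₀)
    (hdim : Module.finrank F E ≤ Nat.card κ) {D : Subgroup H} (hD : D ≤ Lin H F ι) (hne : ¬ D ≤ cf H ι.range) :
    Nat.card D * Nat.card ↥(ι.range ⊓ fx M D) < Nat.card ι.range * Nat.card ↥(D ⊓ cf H ι.range) := by
  classical
  have hfE : Finite E := by
    obtain ⟨j⟩ := ‹Nonempty κ›
    exact Finite.of_injective (fun e : E => ι fun _ => e) fun e e' h => congrFun (G.inj h) j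
  have hmf : Module.Finite F E := Module.Finite.of_finite
  obtain ⟨j₀⟩ := ‹Nonempty κ›
  set K₀ := E₀ F ι D with hK₀
  have hmem : ∀ e : E, e ∈ K₀ ↔ ∀ d ∈ D, ∀ y : κ → F, d • tn ι e y = tn ι e y := fun e => Iff.rfl
  choose g hg using fun d : D => hD d.2
  have hg' : ∀ (d : D) (v : κ → E), (d : H) • ι v = ι fun j => g d (v j) := fun d v => hg d v
  have hgK : ∀ (d : D) (e : E), e ∈ K₀ → g d e = e := by
    intro d e he
    have h1 := (hmem e).1 he d d.2 (fun _ => 1)
    rw [tn, hg'] at h1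
    have h2 := congrFun (G.inj h1) j₀
    simpa using h2
  have hKg : ∀ e : E, (∀ d : D, g d e = e) → e ∈ K₀ := by
    intro e he
    rw [hmem]
    intro d hd y
    rw [tn, hg' ⟨d, hd⟩]
    congr 1
    funext j
    rw [map_smul, he]
  let θ : D → (E ⧸ K₀ →ₗ[F] E) := fun d => K₀.liftQ ((g d : E →ₗ[F] E) - LinearMap.id) fun e he => by
    show g d e - e = 0
    rw [hgK d e he, sub_self]
  have hθ : ∀ (d : D) (e : E), θ d (K₀.mkQ e) = g d e - e := fun d e => rfl
  let K := (cf H ι.range).subgroupOf D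
  have hθK : ∀ d d' : D, θ d = θ d' ↔ d⁻¹ * d' ∈ K := by
    intro d d'
    constructor
    · intro h
      rintro _ ⟨v, rfl⟩
      show ((d : H)⁻¹ * (d' : H)) • ι v = ι v
      rw [mul_smul, inv_smul_eq_iff, hg', hg']
      congr 1
      funext j
      have h1 := congrArg (fun f => f (K₀.mkQ (v j))) h
      simp only [hθ] at h1
      exact (sub_left_injective h1).symm
    · intro h
      apply LinearMap.ext
      intro x
      obtain ⟨e, rfl⟩ := K₀.mkQ_surjective x
      rw [hθ, hθ]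
      have h1 : ((d : H)⁻¹ * (d' : H)) • ι (fun _ => e) = ι (fun _ => e) := h _ ⟨_, rfl⟩
      rw [mul_smul, inv_smul_eq_iff, hg', hg'] at h1
      rw [← congrFun (G.inj h1) j₀]
  let Θ : D ⧸ K → (E ⧸ K₀ →ₗ[F] E) := Quotient.lift θ fun a b h => (hθK a b).2 (QuotientGroup.leftRel_apply.1 h)
  have hΘ : Function.Injective Θ := by
    intro a b
    induction a using QuotientGroup.induction_on with
    | H a =>
      induction b using QuotientGroup.induction_on with
      | H b =>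
        intro h
        exact QuotientGroup.eq.2 ((hθK a b).1 h)
  have hfin : Finite (E ⧸ K₀ →ₗ[F] E) := Module.finite_of_finite F
  -- `Θ` is not surjective
  obtain ⟨e, he⟩ : ∃ e, e ∉ K₀ := by
    by_contra hcon
    push Not at hcon
    apply hne
    intro d hd
    rintro _ ⟨v, rfl⟩
    have h1 := hg' ⟨d, hd⟩ v
    rw [h1]
    congr 1
    funext j
    exact hgK _ _ (hcon _)
  have he0 : e ≠ 0 := by rintro rfl; exact he (zero_mem _)
  obtain ⟨χ, h1, h2⟩ := exists_fun (F := F) K₀ he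
  have hns : ¬ Function.Surjective Θ := by
    intro hs
    obtain ⟨a, ha⟩ := hs (K₀.liftQ (-(χ.smulRight e)) fun u hu => by
      show -(χ u • e) = 0
      rw [h2 u hu, zero_smul, neg_zero])
    induction a using QuotientGroup.induction_on with
    | H a =>
      have h3 : θ a (K₀.mkQ e) = -(χ e • e) := congrArg (fun f => f (K₀.mkQ e)) ha
      rw [hθ, h1, one_smul] at h3
      have h4 : g a e = 0 := by
        have : g a e = (g a e - e) + e := by abel
        rw [this, h3, neg_add_cancel]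
      exact he0 ((LinearEquiv.map_eq_zero_iff _).1 h4)
  have hlt : Nat.card (D ⧸ K) < Nat.card (E ⧸ K₀ →ₗ[F] E) := by
    refine lt_of_le_of_ne (Nat.card_le_card_of_injective Θ hΘ) fun h0 => hns ?_
    exact (hΘ.bijective_of_nat_card_le h0.ge).2
  have hcH : Nat.card (E ⧸ K₀ →ₗ[F] E) ≤ Nat.card (E ⧸ K₀) ^ Nat.card κ := by
    rw [Module.natCard_eq_pow_finrank (K := F), Module.natCard_eq_pow_finrank (K := F) (V := E ⧸ K₀),
      Module.finrank_linearMap, ← pow_mul]
    exact Nat.pow_le_pow_right Nat.card_pos (Nat.mul_le_mul_left _ hdim)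
  have hDK : Nat.card D = Nat.card (D ⧸ K) * Nat.card ↥(D ⊓ cf H ι.range) := by
    rw [Subgroup.card_eq_card_quotient_mul_card_subgroup K]
    congr 1
    have h3 : K.map D.subtype = D ⊓ cf H ι.range := by
      rw [Subgroup.subgroupOf_map_subtype, inf_comm]
    rw [← h3]
    exact (Nat.card_congr (Subgroup.equivMapOfInjective _ _ D.subtype_injective).toEquiv)
  have hV : Nat.card ι.range = Nat.card E ^ Nat.card κ := by
    rw [← Nat.card_fun]
    exact (Nat.card_congr (AddMonoidHom.ofInjective G.inj).toEquiv).symm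
  have hVD : Nat.card ↥(ι.range ⊓ fx M D) = Nat.card K₀ ^ Nat.card κ := by
    rw [← Nat.card_fun]
    refine (Nat.card_congr (Equiv.ofBijective (fun v : κ → K₀ =>
      (⟨ι fun j => (v j : E), ⟨_, rfl⟩, ?_⟩ : ↥(ι.range ⊓ fx M D))) ⟨?_, ?_⟩)).symm
    · intro d hd
      rw [hg' ⟨d, hd⟩]
      congr 1
      funext j
      exact hgK _ _ (v j).2
    · intro v v' h
      have h3 := G.inj (congrArg Subtype.val h)
      funext j
      exact Subtype.ext (congrFun h3 j)
    · rintro ⟨_, ⟨v, rfl⟩, hv⟩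
      refine ⟨fun j => ⟨v j, hKg _ fun d => ?_⟩, rfl⟩
      have h3 := hv d d.2
      rw [hg'] at h3
      exact congrFun (G.inj h3) j
  have hEK : Nat.card E = Nat.card K₀ * Nat.card (E ⧸ K₀) := by
    rw [Submodule.card_eq_card_quotient_mul_card K₀, mul_comm]
  rw [hDK, hVD, hV, hEK, mul_pow]
  have hp : 0 < Nat.card K₀ ^ Nat.card κ := pow_pos Nat.card_pos _
  have hp' : 0 < Nat.card ↥(D ⊓ cf H ι.range) := Nat.card_pos
  calc Nat.card (D ⧸ K) * Nat.card ↥(D ⊓ cf H ι.range) * Nat.card K₀ ^ Nat.card κ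
      = Nat.card (D ⧸ K) * (Nat.card ↥(D ⊓ cf H ι.range) * Nat.card K₀ ^ Nat.card κ) := by ring
    _ < Nat.card (E ⧸ K₀) ^ Nat.card κ * (Nat.card ↥(D ⊓ cf H ι.range) * Nat.card K₀ ^ Nat.card κ) :=
        Nat.mul_lt_mul_of_pos_right (hlt.trans_le hcH) (Nat.mul_pos hp' hp)
    _ = _ := by ring

/-- **`V₁` is not FF** -/
theorem nff [Finite H] [Finite M] [Finite F] [Finite κ] [Nonempty κ] (G : Geo H F ι e₀)
    (hdim : Module.finrank F E ≤ Nat.card κ) (T : Sylow 2 H) (TL : (T : Subgroup H) ≤ Lin H F ι) {D : Subgroup H}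
    (hD2 : IsPGroup 2 D) (hD : D ≤ nf H ι.range) (hne : ¬ D ≤ cf H ι.range) :
    Nat.card D * Nat.card ↥(ι.range ⊓ fx M D) < Nat.card ι.range * Nat.card ↥(D ⊓ cf H ι.range) := by
  have : Fact (Nat.Prime 2) := ⟨Nat.prime_two⟩
  obtain ⟨n, hn, h1⟩ := MinFF.exists_sylow_le T (TL.trans (Lin_le_nf ι)) hD hD2
  rw [MinFF.coe_smul_sylow] at h1
  have h2 : FF.Basic.cj n⁻¹ D ≤ Lin H F ι := by
    refine le_trans ?_ TL
    intro x hx
    rw [FF.Basic.mem_cj, inv_inv] at hx
    have h3 := h1 hx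
    rw [MinFF.mem_cj] at h3
    have e : n⁻¹ * (n * x * n⁻¹) * n = x := by group
    rwa [e] at h3
  have hVn : n⁻¹ • ι.range = ι.range := by
    rw [inv_smul_eq_iff]; exact (mem_nf.1 hn).symm
  have hcf : ∀ x : H, x ∈ cf H ι.range ↔ n * x * n⁻¹ ∈ cf H ι.range := by
    intro x
    have h3 := cf_conj (U := ι.range) (x := n⁻¹) (y := x)
    rw [hVn, inv_inv] at h3
    exact h3
  have h3 := nff_lin G hdim h2 (fun h0 => hne fun d hd => by
    have h4 : n⁻¹ * d * n ∈ FF.Basic.cj n⁻¹ D := by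
      rw [FF.Basic.mem_cj, inv_inv]
      have e : n * (n⁻¹ * d * n) * n⁻¹ = d := by group
      rwa [e]
    have h5 := (hcf _).1 (h0 h4)
    have e : n * (n⁻¹ * d * n) * n⁻¹ = d := by group
    rwa [e] at h5)
  rw [FF.Basic.card_cj] at h3
  have h4 : FF.Basic.cj n⁻¹ D ⊓ cf H ι.range = FF.Basic.cj n⁻¹ (D ⊓ cf H ι.range) := by
    ext x
    rw [Subgroup.mem_inf, FF.Basic.mem_cj, FF.Basic.mem_cj, Subgroup.mem_inf, inv_inv, hcf]
  have h5 : Nat.card ↥(ι.range ⊓ fx M (FF.Basic.cj n⁻¹ D)) = Nat.card ↥(ι.range ⊓ fx M D) := by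
    have h6 : ι.range ⊓ fx M (FF.Basic.cj n⁻¹ D) = n⁻¹ • (ι.range ⊓ fx M D) := by
      ext m
      rw [mem_smul, inv_inv, AddSubgroup.mem_inf, AddSubgroup.mem_inf, FF.Basic.mem_fx_cj, inv_inv]
      have h7 : n • m ∈ ι.range ↔ m ∈ ι.range := by
        have h8 : m ∈ n⁻¹ • ι.range ↔ n • m ∈ ι.range := by rw [mem_smul, inv_inv]
        rw [hVn] at h8
        exact h8.symm
      rw [h7]
    rw [h6, card_smul']
  rw [h4, FF.Basic.card_cj, h5] at h3
  exact h3

/-- **(0)** a best offender in `N_H(V₁)` centralises `V₁` -/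
theorem cent_of_best [Finite H] [Finite M] [Finite F] [Finite κ] [Nonempty κ] (G : Geo H F ι e₀)
    (hdim : Module.finrank F E ≤ Nat.card κ) (T : Sylow 2 H) (TL : (T : Subgroup H) ≤ Lin H F ι) {A : Subgroup H}
    (hA2 : IsPGroup 2 A) (hle : ∀ D ≤ A, mm M D ≤ mm M A) (hA : A ≤ nf H ι.range) : A ≤ cf H ι.range := by
  by_contra hne
  have h1 := nff G hdim T TL hA2 hA hne
  set D := A ⊓ cf H ι.range with hD
  have h2 := hle D inf_le_left
  have h3 : ι.range ⊔ fx M A ≤ fx M D := sup_le (le_cf.1 inf_le_right) (fx_anti inf_le_left)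
  have h4 := card_sup_inf ι.range (fx M A)
  have h5 := card_le h3
  rw [mm, mm] at h2
  have h6 : Nat.card ι.range * Nat.card D ≤ Nat.card A * Nat.card ↥(ι.range ⊓ fx M A) := by
    have p : 0 < Nat.card (fx M A) := Nat.card_pos
    refine Nat.le_of_mul_le_mul_right ?_ p
    calc Nat.card ι.range * Nat.card D * Nat.card (fx M A)
        = Nat.card D * (Nat.card ι.range * Nat.card (fx M A)) := by ring
      _ = Nat.card D * (Nat.card ↥(ι.range ⊔ fx M A) * Nat.card ↥(ι.range ⊓ fx M A)) := by rw [h4]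
      _ ≤ Nat.card D * (Nat.card (fx M D) * Nat.card ↥(ι.range ⊓ fx M A)) :=
        Nat.mul_le_mul_left _ (Nat.mul_le_mul_right _ h5)
      _ = Nat.card D * Nat.card (fx M D) * Nat.card ↥(ι.range ⊓ fx M A) := by ring
      _ ≤ Nat.card A * Nat.card (fx M A) * Nat.card ↥(ι.range ⊓ fx M A) := Nat.mul_le_mul_right _ h2
      _ = _ := by ring
  exact absurd h1 (not_lt.2 h6)

end Cfsg.Agent.Omega.NO3b.ActT
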