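import Cfsg.Agent.Omega.NO3b.ActT.ThmK
import Cfsg.Agent.Omega.MinFF.LLemma
import Cfsg.Agent.Lib.Cores

/-!
# NotFF (v2), THEOREM ACT (bb OMEGA #20394, helper999; referee #21164, helper953), part 3: facts on `V₁ = E ⊗ Y`

* `f1` : `n ∈ C_H(λ) ∩ N_H(V₁)` maps `E ⊗ y` into `E ⊗ y + λ` (953's (f1));
* `nff` : `|D| |C_{V₁}(D)| < |V₁| |C_D(V₁)|` for every 2-subgroup `D` of `N_H(V₁)` which moves `V₁`, if `dim E ≤ dim Y`.
-/

set_option autoImplicit false
set_option linter.unusedSectionVars false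

namespace Cfsg.Agent.Omega.NO3b.ActT

open Cfsg.Agent.Omega.FF.Basic (fx mem_fx fx_anti card_sup_inf card_le EA mm mm_bot)
open Cfsg.Agent.Omega.NO3b.Exit.TT (cf mem_cf nf mem_nf mem_smul smul_mem' nf_smul le_cf card_smul' cf_conj nf_conj
  cf_le_nf)
open scoped Pointwise

variable {H : Type*} [Group H] {M : Type*} [AddCommGroup M] [DistribMulAction H M]
  {F : Type*} [Field F] {E : Type*} [AddCommGroup E] [Module F E] {κ : Type*}
  {ι : (κ → E) →+ M} {e₀ : E}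

/-- a normal group of automorphisms of exponent 2 of `V` is induced by the Sylow group `T` -/
theorem exists_T [Finite H] (T : Sylow 2 H) {N R : Subgroup H} {V : AddSubgroup M} (TN : (T : Subgroup H) ≤ N)
    (RN : R ≤ N) (NV : N ≤ nf H V) (hR : ∀ n ∈ N, ∀ r ∈ R, n * r * n⁻¹ ∈ R)
    (sq : ∀ r ∈ R, ∀ m ∈ V, r • r • m = m) {r : H} (hr : r ∈ R) : ∃ t ∈ (T : Subgroup H), ∀ m ∈ V, t • m = r • m := by
  have : Fact (Nat.Prime 2) := ⟨Nat.prime_two⟩
  have hK : ((cf H V).subgroupOf N).Normal := by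
    constructor
    intro k hk n
    rw [Subgroup.mem_subgroupOf] at hk ⊢
    intro m hm
    have h1 : ((n : H)⁻¹) • m ∈ V := nf_smul (inv_mem (NV n.2)) hm
    have h2 := hk _ h1
    show ((n : H) * (k : H) * (n : H)⁻¹) • m = m
    rw [mul_smul, mul_smul, h2, smul_inv_smul]
  set K := (cf H V).subgroupOf N with hKdef
  let π := QuotientGroup.mk' K
  have hπ : Function.Surjective π := QuotientGroup.mk'_surjective K
  let T' := (T.subtype TN).mapSurjective hπ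
  have hRn : (R.subgroupOf N).Normal := by
    constructor
    intro x hx n
    exact hR n n.2 x hx
  have hR'n : ((R.subgroupOf N).map π).Normal := hRn.map _ hπ
  have hR'2 : IsPGroup 2 ((R.subgroupOf N).map π) := by
    rintro ⟨_, x, hx, rfl⟩
    refine ⟨1, Subtype.ext ?_⟩
    show (π x) ^ 2 ^ 1 = 1
    rw [pow_one, ← map_pow, ← MonoidHom.mem_ker, QuotientGroup.ker_mk', Subgroup.mem_subgroupOf]
    intro m hm
    show ((x : H) ^ 2) • m = m
    rw [pow_two, mul_smul]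
    exact sq x hx m hm
  have h1 : (R.subgroupOf N).map π ≤ (T' : Subgroup _) := IsPGroup.le_sylow_of_normal hR'2 T'
  have h2 : π ⟨r, RN hr⟩ ∈ (T' : Subgroup _) := h1 ⟨⟨r, RN hr⟩, hr, rfl⟩
  rw [Sylow.coe_mapSurjective] at h2
  obtain ⟨t, ht, h3⟩ := h2
  have ht' : (t : H) ∈ (T : Subgroup H) := ht
  refine ⟨t, ht', fun m hm => ?_⟩
  have h4 : t⁻¹ * ⟨r, RN hr⟩ ∈ K := QuotientGroup.eq.1 h3
  have h5 : ((t : H)⁻¹ * r) • m = m := h4 m hm
  rw [mul_smul, inv_smul_eq_iff] at h5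
  exact h5.symm

/-- `t ∈ Lin` with `[V₁, t] ≤ λ` acts as `1 + e₀ ⊗ χ` -/
theorem exists_chi [Nonempty κ] (hι : Function.Injective ι) (he₀ : e₀ ≠ 0) {t : H} {g : E ≃ₗ[F] E}
    (hg : IsLin ι t (g : E →ₗ[F] E)) (ht : ∀ m ∈ ι.range, t • m - m ∈ pt F ι e₀) :
    ∃ χ : E →ₗ[F] F, ∀ v : κ → E, t • ι v = ι v + tn ι e₀ fun j => χ (v j) := by
  obtain ⟨j₀⟩ := ‹Nonempty κ›
  obtain ⟨θ, hθ, -⟩ := exists_fun (F := F) ⊥ (x := e₀) (by rwa [Submodule.mem_bot])
  have h1 : ∀ e : E, ∃ c : F, g e - e = c • e₀ := by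
    intro e
    obtain ⟨y, hy⟩ := ht (ι fun _ => e) ⟨_, rfl⟩
    rw [hg, ← map_sub] at hy
    have h2 := congrFun (hι hy) j₀
    exact ⟨y j₀, h2⟩
  refine ⟨θ.comp ((g : E →ₗ[F] E) - LinearMap.id), fun v => ?_⟩
  rw [hg, tn, ← map_add]
  congr 1
  funext j
  obtain ⟨c, hc⟩ := h1 (v j)
  show g (v j) = v j + θ (g (v j) - v j) • e₀
  rw [hc, map_smul, hθ, smul_eq_mul, mul_one, ← hc]; abel

/-- **(f1)** -/
theorem f1 [Finite H] [Finite M] [CharP F 2] [Nonempty κ] (G : Geo H F ι e₀) (T : Sylow 2 H)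
    (TL : (T : Subgroup H) ≤ Lin H F ι) (T0 : (T : Subgroup H) ≤ cf H (pt F ι e₀)) {n : H} (hn : n ∈ cf H (pt F ι e₀))
    (hnV : n ∈ nf H ι.range) (e : E) (y₀ : κ → F) :
    ∃ (e' : E) (y : κ → F), n • tn ι e y₀ = tn ι e' y₀ + tn ι e₀ y := by
  set lam := pt F ι e₀ with hlam
  let N : Subgroup H := cf H lam ⊓ nf H ι.range
  let R : Subgroup H :=
    { carrier := {r | r ∈ N ∧ ∀ m ∈ ι.range, r • m - m ∈ lam}
      one_mem' := ⟨one_mem _, fun m _ => by rw [one_smul, sub_self]; exact zero_mem _⟩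
      mul_mem' := by
        rintro a b ⟨ha, ha'⟩ ⟨hb, hb'⟩
        refine ⟨mul_mem ha hb, fun m hm => ?_⟩
        have e1 : (a * b) • m - m = a • (b • m - m) + (a • m - m) := by
          rw [smul_sub, mul_smul]; abel
        rw [e1, ha.1 _ (hb' m hm)]
        exact add_mem (hb' m hm) (ha' m hm)
      inv_mem' := by
        rintro a ⟨ha, ha'⟩
        refine ⟨inv_mem ha, fun m hm => ?_⟩
        have h1 := ha' (a⁻¹ • m) (nf_smul (inv_mem ha.2) hm)
        rw [smul_inv_smul] at h1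
        have h2 := neg_mem h1
        rwa [neg_sub] at h2 }
  have hlV : lam ≤ ι.range := pt_le ι e₀
  have hRn : ∀ n ∈ N, ∀ r ∈ R, n * r * n⁻¹ ∈ R := by
    rintro n hn r ⟨hr, hr'⟩
    refine ⟨mul_mem (mul_mem hn hr) (inv_mem hn), fun m hm => ?_⟩
    have h1 := hr' (n⁻¹ • m) (nf_smul (inv_mem hn.2) hm)
    have e1 : (n * r * n⁻¹) • m - m = n • (r • n⁻¹ • m - n⁻¹ • m) := by
      rw [smul_sub, smul_inv_smul, mul_smul, mul_smul]
    rw [e1, hn.1 _ h1]
    exact h1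
  have hsq : ∀ r ∈ R, ∀ m ∈ ι.range, r • r • m = m := by
    rintro r ⟨hr, hr'⟩ m hm
    have h1 := hr' m hm
    have h2 := hr.1 _ h1
    rw [smul_sub] at h2
    have h3 : r • r • m = r • m + (r • m - m) := by rw [← h2]; abel
    have h4 : r • m - m + (r • m - m) = 0 := G.two _
    have h5 : r • r • m = m + (r • m - m + (r • m - m)) := by rw [h3]; abel
    rw [h5, h4, add_zero]
  have key : ∀ r ∈ R, ∃ χ : E →ₗ[F] F, ∀ v : κ → E, r • ι v = ι v + tn ι e₀ fun j => χ (v j) := by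
    intro r hr
    obtain ⟨t, ht, h1⟩ := exists_T T (N := N) (R := R) (V := ι.range)
      (le_inf T0 (TL.trans (Lin_le_nf ι))) (fun r hr => hr.1) inf_le_right hRn hsq hr
    obtain ⟨g, hg⟩ := TL ht
    obtain ⟨χ, hχ⟩ := exists_chi G.inj G.e₀ne hg (fun m hm => by
      rw [h1 m hm]; exact hr.2 m hm)
    exact ⟨χ, fun v => by rw [← h1 _ ⟨v, rfl⟩]; exact hχ v⟩
  by_cases hy : y₀ = 0
  · subst hy
    exact ⟨0, 0, by rw [tn_zero, smul_zero, tn_zero, tn_zero, add_zero]⟩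
  obtain ⟨j₀, hj₀⟩ : ∃ j, y₀ j ≠ 0 := by
    by_contra hcon
    push Not at hcon
    exact hy (funext hcon)
  obtain ⟨w, hw⟩ : n • tn ι e y₀ ∈ ι.range := nf_smul hnV (pt_le ι e (tn_mem ι e y₀))
  have hnN : n ∈ N := ⟨hn, hnV⟩
  have h1 : ∀ χ : E →ₗ[F] F, χ e₀ = 0 → ∃ c : F, ∀ j, χ (w j) = c * y₀ j := by
    intro χ hχ
    obtain ⟨h, hh⟩ := G.tv e₀ χ hχ
    have hh' : ∀ v : κ → E, h • ι v = ι v + tn ι e₀ fun j => χ (v j) := by
      intro v
      rw [hh, tn, ← map_add]; rfl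
    have h0 : ∀ y : κ → F, h • tn ι e₀ y = tn ι e₀ y := by
      intro y
      rw [tn, hh]
      congr 1
      funext j
      rw [map_smul, hχ, smul_zero, zero_smul, add_zero]
    have hhR : h ∈ R := by
      refine ⟨⟨?_, ?_⟩, ?_⟩
      · rintro _ ⟨y, rfl⟩
        exact h0 y
      · refine Lin_le_nf (F := F) ι ?_
        have hinv : Function.Involutive (LinearMap.id + χ.smulRight e₀ : E →ₗ[F] E) := by
          intro u
          show (u + χ u • e₀) + χ (u + χ u • e₀) • e₀ = u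
          rw [map_add, map_smul, hχ, smul_zero, add_zero, add_assoc, ← add_smul, CharTwo.add_self_eq_zero,
            zero_smul, add_zero]
        exact ⟨LinearEquiv.ofInvolutive _ hinv, hh⟩
      · rintro _ ⟨v, rfl⟩
        rw [hh', add_sub_cancel_left]
        exact tn_mem _ _ _
    obtain ⟨χ', hχ'⟩ := key _ (hRn _ (inv_mem hnN) h hhR)
    have h2 := hχ' (fun j => y₀ j • e)
    have h3 : (n⁻¹ * h * n⁻¹⁻¹) • tn ι e y₀ = tn ι e y₀ + tn ι e₀ (fun j => χ (w j)) := by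
      rw [mul_smul, mul_smul, inv_inv, ← hw, hh', smul_add, hw, inv_smul_smul]
      congr 1
      rw [inv_smul_eq_iff, hn _ (tn_mem ι e₀ _)]
    have h4 : tn ι e₀ (fun j => χ (w j)) = tn ι e₀ (fun j => χ' (y₀ j • e)) := add_left_cancel (h3.symm.trans h2)
    refine ⟨χ' e, fun j => ?_⟩
    have h5 := congrFun (tn_inj G.inj G.e₀ne h4) j
    rw [h5, map_smul, smul_eq_mul, mul_comm]
  -- `w j - y₀ j e' ∈ F e₀`
  set e' := (y₀ j₀)⁻¹ • w j₀ with he'
  have h2 : ∀ j, ∃ c : F, w j = y₀ j • e' + c • e₀ := by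
    intro j
    have h3 : w j - y₀ j • e' ∈ Submodule.span F {e₀} := by
      by_contra hcon
      obtain ⟨χ, h4, h5⟩ := exists_fun (F := F) _ hcon
      obtain ⟨c, hc⟩ := h1 χ (h5 _ (Submodule.mem_span_singleton_self _))
      rw [map_sub, map_smul, he', map_smul, hc, hc, smul_eq_mul, smul_eq_mul, mul_comm c (y₀ j₀), ← mul_assoc (y₀ j₀)⁻¹,
        inv_mul_cancel₀ hj₀, one_mul, mul_comm, sub_self] at h4
      exact zero_ne_one h4
    obtain ⟨c, hc⟩ := Submodule.mem_span_singleton.1 h3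
    exact ⟨c, by rw [hc]; abel⟩
  choose c hc using h2
  refine ⟨e', c, ?_⟩
  rw [← hw, tn, tn, ← map_add]
  congr 1
  funext j
  exact hc j

end Cfsg.Agent.Omega.NO3b.ActT
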