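import Cfsg.Agent.Omega.NO3b.ActT.Base

/-!
# NotFF (v2), THEOREM ACT (bb OMEGA #20394, helper999), part 2: THEOREM K (bb OMEGA #22060, helper811)

`H` acts on `M`, `λ = e₀ ⊗ Y ≤ V₁ = E ⊗ Y`, every transvection of `E` is induced, `H = ⟨N_H(λ), Lin⟩`, `M = ⟨λ^H⟩`.
Let `μ = h₀ • λ` and `C < M` a subgroup such that every conjugate `h • V₁` which has `μ` as a point lies in `C`.
Then no 2-element `t` with `[M, t] ≤ V₁` acts on `V₁` as `g ⊗ 1`, `g ≠ 1`.
-/

set_option autoImplicit false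
set_option linter.unusedSectionVars false

namespace Cfsg.Agent.Omega.NO3b.ActT

open Cfsg.Agent.Omega.NO3b.Exit.TT (cf mem_cf nf mem_nf mem_smul smul_mem')
open scoped Pointwise

variable {H : Type*} [Group H] {M : Type*} [AddCommGroup M] [DistribMulAction H M]
  {F : Type*} [Field F] {E : Type*} [AddCommGroup E] [Module F E] {κ : Type*}
  {ι : (κ → E) →+ M} {e₀ : E}

theorem exists_fun (p : Submodule F E) {x : E} (hx : x ∉ p) : ∃ χ : E →ₗ[F] F, χ x = 1 ∧ ∀ u ∈ p, χ u = 0 := by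
  obtain ⟨χ, h1, h2⟩ := Submodule.exists_dual_map_eq_bot_of_notMem hx inferInstance
  refine ⟨(χ x)⁻¹ • χ, by rw [LinearMap.smul_apply, smul_eq_mul, inv_mul_cancel₀ h1], fun u hu => ?_⟩
  have h3 : χ u ∈ p.map χ := ⟨u, hu, rfl⟩
  rw [h2, Submodule.mem_bot] at h3
  rw [LinearMap.smul_apply, h3, smul_zero]

theorem smul_pt {h : H} {g : E →ₗ[F] E} (hg : IsLin ι h g) (e : E) : h • pt F ι e = pt F ι (g e) := by
  ext m
  rw [mem_smul, mem_pt, mem_pt]
  constructor
  · rintro ⟨y, hy⟩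
    refine ⟨y, ?_⟩
    rw [← hg.tn, ← hy, smul_inv_smul]
  · rintro ⟨y, rfl⟩
    exact ⟨y, by rw [← hg.tn, inv_smul_smul]⟩

namespace Geo

variable (G : Geo H F ι e₀)
include G

/-- the transvections as elements of `Lin` -/
theorem tv' [CharP F 2] (e : E) (χ : E →ₗ[F] F) (he : χ e = 0) :
    ∃ h ∈ Lin H F ι, ∀ u : E, h • pt F ι u = pt F ι (u + χ u • e) := by
  obtain ⟨h, hh⟩ := G.tv e χ he
  let g : E →ₗ[F] E := LinearMap.id + χ.smulRight e
  have hg : ∀ u, g u = u + χ u • e := fun u => rfl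
  have hinv : Function.Involutive g := by
    intro u
    rw [hg, hg, map_add, map_smul, he, smul_zero, add_zero, add_assoc, ← add_smul, CharTwo.add_self_eq_zero,
      zero_smul, add_zero]
  have hl : IsLin ι h g := hh
  refine ⟨h, ⟨LinearEquiv.ofInvolutive g hinv, hl⟩, fun u => ?_⟩
  rw [smul_pt hl, hg]

/-- transitivity on the points of `V₁` -/
theorem trans [CharP F 2] {p q : E} (hp : p ≠ 0) (hq : q ≠ 0) : ∃ h ∈ Lin H F ι, h • pt F ι p = pt F ι q := by
  have key : ∀ p q : E, p ≠ 0 → (∀ c : F, q ≠ c • p) → ∃ h ∈ Lin H F ι, h • pt F ι p = pt F ι q := by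
    intro p q hp hq
    obtain ⟨χ, h1, h2⟩ := exists_fun (F := F) (Submodule.span F {q - p}) (x := p) (by
      intro h
      obtain ⟨c, hc⟩ := Submodule.mem_span_singleton.1 h
      by_cases c0 : c = 0
      · rw [c0, zero_smul] at hc; exact hp hc.symm
      · apply hq (1 + c⁻¹)
        have h3 : c⁻¹ • c • (q - p) = c⁻¹ • p := by rw [hc]
        rw [smul_smul, inv_mul_cancel₀ c0, one_smul] at h3
        rw [add_smul, one_smul, ← h3]; abel)
    obtain ⟨h, hh, h3⟩ := G.tv' (q - p) χ (h2 _ (Submodule.mem_span_singleton_self _))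
    refine ⟨h, hh, ?_⟩
    rw [h3, h1, one_smul, add_sub_cancel]
  by_cases h : ∀ c : F, q ≠ c • p
  · exact key p q hp h
  · push Not at h
    obtain ⟨c, rfl⟩ := h
    have hc : c ≠ 0 := by rintro rfl; exact hq (zero_smul _ _)
    exact ⟨1, one_mem _, by rw [one_smul, pt_smul ι hc]⟩

/-- `Lin` is doubly transitive on the points of `V₁` -/
theorem trans₂ [CharP F 2] {p q q' : E} (hp : p ≠ 0) (hq : ∀ c : F, q ≠ c • p) (hq' : ∀ c : F, q' ≠ c • p) :
    ∃ h ∈ Lin H F ι, h • pt F ι p = pt F ι p ∧ h • pt F ι q = pt F ι q' := by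
  have hind : ∀ a b : F, a • p + b • q = 0 → b = 0 := by
    intro a b h
    by_contra hb
    apply hq (-(b⁻¹ * a))
    have h1 : b • q = -(a • p) := eq_neg_of_add_eq_zero_right h
    have h2 : q = b⁻¹ • b • q := by rw [smul_smul, inv_mul_cancel₀ hb, one_smul]
    rw [h2, h1, smul_neg, smul_smul, neg_smul]
  by_cases h : q' ∈ Submodule.span F {p, q}
  · obtain ⟨a, b, h1⟩ := Submodule.mem_span_pair.1 h
    have hb : b ≠ 0 := by
      rintro rfl
      rw [zero_smul, add_zero] at h1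
      exact hq' a h1.symm
    obtain ⟨χ, h2, h3⟩ := exists_fun (F := F) (Submodule.span F {p}) (x := q) (by
      intro h
      obtain ⟨c, hc⟩ := Submodule.mem_span_singleton.1 h
      exact hq c hc.symm)
    have hχp : χ p = 0 := h3 _ (Submodule.mem_span_singleton_self _)
    obtain ⟨t, ht, h4⟩ := G.tv' p ((b⁻¹ * a) • χ) (by rw [LinearMap.smul_apply, hχp, smul_zero])
    refine ⟨t, ht, ?_, ?_⟩
    · rw [h4, LinearMap.smul_apply, hχp, smul_zero, zero_smul, add_zero]
    · rw [h4, LinearMap.smul_apply, h2, smul_eq_mul, mul_one, ← h1, ← pt_smul ι hb, smul_add, smul_smul,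
        ← mul_assoc, mul_inv_cancel₀ hb, one_mul, add_comm]
  · obtain ⟨χ, h2, h3⟩ := exists_fun (F := F) (Submodule.span F {p, q' - q}) (x := q) (by
      intro h0
      obtain ⟨a, b, h1⟩ := Submodule.mem_span_pair.1 h0
      by_cases hb : b = 0
      · rw [hb, zero_smul, add_zero] at h1
        exact hq a h1.symm
      · apply h
        rw [Submodule.mem_span_pair]
        refine ⟨-(b⁻¹ * a), 1 + b⁻¹, ?_⟩
        have h4 : b • (q' - q) = q - a • p := eq_sub_of_add_eq' h1
        have h5 : q' - q = b⁻¹ • (q - a • p) := by rw [← h4, smul_smul, inv_mul_cancel₀ hb, one_smul]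
        have h6 : q' = q + b⁻¹ • (q - a • p) := by rw [← h5]; abel
        conv_rhs => rw [h6]
        rw [smul_sub, smul_smul, neg_smul, add_smul, one_smul]; abel)
    have hχp : χ p = 0 := h3 _ (Submodule.subset_span (by simp))
    have hχq : χ (q' - q) = 0 := h3 _ (Submodule.subset_span (by simp))
    obtain ⟨t, ht, h4⟩ := G.tv' (q' - q) χ hχq
    refine ⟨t, ht, ?_, ?_⟩
    · rw [h4, hχp, zero_smul, add_zero]
    · rw [h4, h2, one_smul, add_sub_cancel]

end Geo

/-- **THEOREM K** -/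
theorem thmK [CharP F 2] [Finite E] (G : Geo H F ι e₀) {h₀ : H} {C : AddSubgroup M} (hC : C ≠ ⊤)
    (star : ∀ h : H, h • pt F ι e₀ = h₀ • pt F ι e₀ → h • ι.range ≤ C)
    {t : H} {g : E ≃ₗ[F] E} (hg : IsLin ι t (g : E →ₗ[F] E)) {n : ℕ} (ht : t ^ 2 ^ n = 1)
    (htV : ∀ m : M, t • m - m ∈ ι.range) {e₁ : E} (he₁ : g e₁ ≠ e₁) : False := by
  -- `g e₁` and `e₁` are independent
  have he1 : e₁ ≠ 0 := by
    rintro rfl
    exact he₁ (map_zero g)
  have hge1 : g e₁ ≠ 0 := fun h => he1 ((LinearEquiv.map_eq_zero_iff g).1 h)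
  have hind : ∀ c : F, g e₁ ≠ c • e₁ := by
    intro c hc
    have hpow : ∀ k : ℕ, ∀ y : κ → F, (t ^ k) • tn ι e₁ y = tn ι (c ^ k • e₁) y := by
      intro k
      induction k with
      | zero => intro y; rw [pow_zero, pow_zero, one_smul, one_smul]
      | succ k ih =>
        intro y
        have h1 := hg.tn e₁ y
        rw [LinearEquiv.coe_coe, hc] at h1
        rw [pow_succ, mul_smul, h1, tn_smul, ih, tn_smul, tn_smul, smul_smul, pow_succ]
    have hc1 : c ^ 2 ^ n = 1 := by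
      by_contra hne
      obtain ⟨j⟩ : Nonempty κ := by
        by_contra hκ
        rw [not_nonempty_iff] at hκ
        apply hC
        rw [← G.gen C]
        intro h
        rintro m hm
        obtain ⟨y, hy⟩ := mem_smul.1 hm
        have h1 : y = 0 := by funext j; exact (hκ.false j).elim
        rw [h1, tn_zero, inv_smul_eq_iff, smul_zero] at hy
        rw [hy]; exact C.zero_mem
      have h1 := hpow (2 ^ n) (fun _ => 1)
      rw [ht, one_smul, tn_smul] at h1
      have h2 := congrFun (tn_inj G.inj he1 h1) j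
      simp only [Pi.smul_apply, smul_eq_mul, mul_one] at h2
      exact hne h2.symm
    have hc2 : c = 1 := by
      have h1 : (c - 1) ^ 2 ^ n = 0 := by
        rw [sub_pow_char_pow, hc1, one_pow, sub_self]
      exact sub_eq_zero.1 (pow_eq_zero_iff (pow_ne_zero n two_ne_zero) |>.1 h1)
    rw [hc2, one_smul] at hc
    exact he₁ hc
  -- for every two points `e ⊗ Y`, `e' ⊗ Y` of `V₁` some `k` with `[M, k] ≤ V₁` maps the first one onto the second one
  have hK : ∀ e e' : E, e ≠ 0 → (∀ c : F, e' ≠ c • e) →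
      ∃ k : H, k • pt F ι e = pt F ι e' ∧ ∀ m : M, k • m - m ∈ ι.range := by
    intro e e' he hee'
    obtain ⟨x, hx, h1⟩ := G.trans he1 he
    obtain ⟨gx, hgx⟩ := hx
    have h2 : ∀ c : F, gx (g e₁) ≠ c • e := by
      intro c hc
      have h3 : x • pt F ι (g e₁) = pt F ι (c • e) := by
        rw [smul_pt hgx, ← hc]; rfl
      by_cases c0 : c = 0
      · rw [c0, zero_smul, LinearEquiv.map_eq_zero_iff] at hc
        exact hge1 hc
      · rw [pt_smul ι c0, ← h1, smul_left_cancel_iff] at h3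
        obtain ⟨j⟩ : Nonempty κ := by
          by_contra hκ
          rw [not_nonempty_iff] at hκ
          apply hC
          rw [← G.gen C]
          intro h
          rintro m hm
          obtain ⟨y, hy⟩ := mem_smul.1 hm
          have h1 : y = 0 := by funext j; exact (hκ.false j).elim
          rw [h1, tn_zero, inv_smul_eq_iff, smul_zero] at hy
          rw [hy]; exact C.zero_mem
        have h4 : tn ι (g e₁) (fun _ => (1 : F)) ∈ pt F ι e₁ := by rw [← h3]; exact tn_mem _ _ _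
        obtain ⟨y, hy⟩ := h4
        have h5 := congrFun (G.inj hy) j
        simp only [one_smul] at h5
        exact hind _ h5
    obtain ⟨x', hx', h3, h4⟩ := G.trans₂ he h2 hee'
    refine ⟨(x' * x) * t * (x' * x)⁻¹, ?_, ?_⟩
    · have h5 : (x' * x) • pt F ι e₁ = pt F ι e := by rw [mul_smul, h1, h3]
      have h6 : (x' * x)⁻¹ • pt F ι e = pt F ι e₁ := by rw [inv_smul_eq_iff, h5]
      rw [mul_smul, mul_smul, h6, smul_pt hg, mul_smul, smul_pt hgx]
      exact h4
    · intro m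
      have h5 : x' * x ∈ nf H ι.range := Lin_le_nf (F := F) ι (mul_mem hx' ⟨gx, hgx⟩)
      have h6 := htV ((x' * x)⁻¹ • m)
      have h7 := smul_mem' (x := x' * x) h6
      rw [mem_nf.1 h5, smul_sub, smul_inv_smul] at h7
      rwa [mul_smul, mul_smul]
  -- the set of points `μ^z`, `z ∈ N_H(C)`
  let Q : H → Prop := fun h => ∃ z ∈ nf H C, h • pt F ι e₀ = z • h₀ • pt F ι e₀
  have hQ : ∀ h : H, Q h → ∀ x ∈ Lin H F ι, Q (h * x) := by
    rintro h ⟨z, hz, hzh⟩ x ⟨gx, hgx⟩
    have hx0 : x • pt F ι e₀ = pt F ι (gx e₀) := smul_pt hgx e₀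
    by_cases hind' : ∀ c : F, gx e₀ ≠ c • e₀
    · obtain ⟨k, hk1, hk2⟩ := hK e₀ (gx e₀) G.e₀ne hind'
      have h1 : (z⁻¹ * h) • pt F ι e₀ = h₀ • pt F ι e₀ := by
        rw [mul_smul, hzh, inv_smul_smul]
      have h2 := star _ h1
      obtain ⟨h', hh'⟩ : ∃ h', h' = z⁻¹ * h := ⟨_, rfl⟩
      rw [← hh'] at h1 h2
      have h3 : ∀ m : M, (h' * k * h'⁻¹) • m - m ∈ C := by
        intro m
        apply h2
        have h4 := smul_mem' (x := h') (hk2 (h'⁻¹ • m))
        rw [smul_sub, smul_inv_smul] at h4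
        rwa [mul_smul, mul_smul]
      have h4 : h' * k * h'⁻¹ ∈ nf H C := by
        have h5 : (h' * k * h'⁻¹) • C ≤ C := by
          intro m hm
          have h6 := mem_smul.1 hm
          have h7 := h3 ((h' * k * h'⁻¹)⁻¹ • m)
          rw [smul_inv_smul] at h7
          have h8 := C.add_mem h7 h6
          rwa [sub_add_cancel] at h8
        have h6 : (h' * k * h'⁻¹)⁻¹ • C ≤ C := by
          intro m hm
          rw [mem_smul, inv_inv] at hm
          have h7 := h3 m
          have h8 := C.sub_mem hm h7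
          rwa [sub_sub_cancel] at h8
        rw [mem_nf]
        apply le_antisymm h5
        intro m hm
        rw [mem_smul]
        exact h6 (smul_mem' hm)
      refine ⟨z * (h' * k * h'⁻¹), mul_mem hz h4, ?_⟩
      rw [mul_smul, hx0, ← hk1]
      have e1 : z * (h' * k * h'⁻¹) = h * k * h'⁻¹ := by rw [hh']; group
      rw [e1, mul_smul, ← h1, inv_smul_smul, mul_smul]
    · push Not at hind'
      obtain ⟨c, hc⟩ := hind'
      have hc0 : c ≠ 0 := by
        rintro rfl
        rw [zero_smul, LinearEquiv.map_eq_zero_iff] at hc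
        exact G.e₀ne hc
      refine ⟨z, hz, ?_⟩
      rw [mul_smul, hx0, hc, pt_smul ι hc0, hzh]
  let K : Subgroup H :=
    { carrier := {k | ∀ h, Q h ↔ Q (h * k)}
      one_mem' := fun h => by rw [mul_one]
      mul_mem' := fun {a b} ha hb h => by rw [ha h, hb (h * a), mul_assoc]
      inv_mem' := fun {a} ha h => by rw [ha (h * a⁻¹), inv_mul_cancel_right] }
  have hKtop : K = ⊤ := by
    apply G.conn
    · intro k hk h
      have h1 : (h * k) • pt F ι e₀ = h • pt F ι e₀ := by rw [mul_smul, mem_nf.1 hk]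
      show (∃ z ∈ nf H C, h • pt F ι e₀ = z • h₀ • pt F ι e₀) ↔
        (∃ z ∈ nf H C, (h * k) • pt F ι e₀ = z • h₀ • pt F ι e₀)
      rw [h1]
    · intro x hx h
      refine ⟨fun h1 => hQ h h1 x hx, fun h1 => ?_⟩
      have h2 := hQ _ h1 x⁻¹ (inv_mem hx)
      rwa [mul_inv_cancel_right] at h2
  apply hC
  apply G.gen
  intro h
  have h1 : Q h₀ := ⟨1, one_mem _, by rw [one_smul]⟩
  have h2 : h₀⁻¹ * h ∈ K := by rw [hKtop]; exact Subgroup.mem_top _
  have h3 := (h2 h₀).1 h1
  rw [mul_inv_cancel_left] at h3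
  obtain ⟨z, hz, h4⟩ := h3
  rw [h4]
  have h5 : h₀ • pt F ι e₀ ≤ C :=
    (AddSubgroup.pointwise_smul_le_pointwise_smul_iff.2 (pt_le ι e₀)).trans (star h₀ rfl)
  have h6 := AddSubgroup.pointwise_smul_le_pointwise_smul_iff (a := z).2 h5
  rwa [mem_nf.1 hz] at h6

end Cfsg.Agent.Omega.NO3b.ActT
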